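import Groth.Prelude.Def_W4c3perfectstacksMV
import Mathlib.CategoryTheory.Triangulated.Triangulated
import Mathlib.CategoryTheory.Triangulated.Functor
import Mathlib.CategoryTheory.Adjunction.Additive
import Mathlib.CategoryTheory.Adjunction.FullyFaithful

/-! Vanishing lemmas for Mayer–Vietoris squares of triangulated categories. -/

set_option autoImplicit false
set_option linter.unusedSectionVars false
universe v u
open CategoryTheory CategoryTheory.Limits CategoryTheory.Pretriangulated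
open W4c3perfectstacks

namespace Groth.Agent.L13.MVSquare

section Generic

variable {C : Type u} [Category.{v} C] [Preadditive C] [HasShift C ℤ]
  [∀ n : ℤ, (shiftFunctor C n).Additive]

/-- Injectivity of composition with `m` on a shift-stable class of sources passes to shifts of `m`. -/
lemma shift_inj {P : C → Prop} (hP : ∀ (K : C) (n : ℤ), P K → P (K⟦n⟧)) {X Y : C} (m : X ⟶ Y)
    (hm : ∀ (K : C), P K → ∀ x : K ⟶ X, x ≫ m = 0 → x = 0)
    (n : ℤ) {K : C} (hK : P K) (x : K ⟶ X⟦n⟧) (hx : x ≫ m⟦n⟧' = 0) : x = 0 := by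
  have h1 : x⟦-n⟧' ≫ (shiftShiftNeg X n).hom = 0 := by
    apply hm _ (hP K (-n) hK)
    have h2 : (x ≫ m⟦n⟧')⟦-n⟧' = 0 := by rw [hx, Functor.map_zero]
    rw [Functor.map_comp] at h2
    have h3 := (shiftFunctorCompIsoId C n (-n) (add_neg_cancel n)).hom.naturality m
    simp only [Functor.comp_map, Functor.id_map] at h3
    rw [Category.assoc]
    erw [← h3]
    rw [reassoc_of% h2, zero_comp]
  apply (shiftFunctor C (-n)).map_injective
  rw [Functor.map_zero, ← cancel_mono (shiftShiftNeg X n).hom, h1, zero_comp]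

lemma shift_vanish {P : C → Prop} (hP : ∀ (K : C) (n : ℤ), P K → P (K⟦n⟧)) {X : C}
    (hm : ∀ (K : C), P K → ∀ x : K ⟶ X, x = 0)
    (n : ℤ) {K : C} (hK : P K) (x : K ⟶ X⟦n⟧) : x = 0 :=
  shift_inj hP (0 : X ⟶ X) (fun K hK x _ => hm K hK x) n hK x (by simp)

variable [HasZeroObject C] [Pretriangulated C]

/-- Split off: first-projection iso gives that the second inclusion maps isomorphically. -/
lemma isIso_inr_comp (T : Triangle C) (hT : T ∈ distTriang C) {A B : C}
    (i1 : A ⟶ T.obj₂) (i2 : B ⟶ T.obj₂) (p1 : T.obj₂ ⟶ A) (p2 : T.obj₂ ⟶ B)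
    (h22 : i2 ≫ p2 = 𝟙 B) (h21 : i2 ≫ p1 = 0) (htot : p1 ≫ i1 + p2 ≫ i2 = 𝟙 _)
    (hiso : IsIso (T.mor₁ ≫ p1)) : IsIso (i2 ≫ T.mor₂) := by
  have : Mono T.mor₁ := mono_of_mono T.mor₁ p1
  have hm3 : T.mor₃ = 0 := T.mor₃_eq_zero_of_mono₁ hT this
  have : Epi T.mor₂ := (T.mor₃_eq_zero_iff_epi₂ hT).1 hm3
  have hz : T.mor₁ ≫ T.mor₂ = 0 := comp_distTriang_mor_zero₁₂ _ hT
  have : Epi (i2 ≫ T.mor₂) := by
    rw [Preadditive.epi_iff_cancel_zero]
    intro Z h hh
    rw [Category.assoc] at hh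
    have h1 : T.mor₂ ≫ h = p1 ≫ i1 ≫ T.mor₂ ≫ h := by
      conv_lhs => rw [← Category.id_comp (T.mor₂ ≫ h), ← htot]
      simp only [Preadditive.add_comp, Category.assoc, hh, comp_zero, add_zero]
    have h2 : (T.mor₁ ≫ p1) ≫ i1 ≫ T.mor₂ ≫ h = 0 := by
      rw [Category.assoc, ← h1, reassoc_of% hz, zero_comp]
    rw [← cancel_epi T.mor₂, h1, (cancel_epi (T.mor₁ ≫ p1)).1 (h2.trans comp_zero.symm),
      comp_zero, comp_zero]
  have : Mono (i2 ≫ T.mor₂) := by
    rw [Preadditive.mono_iff_cancel_zero]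
    intro Z k hk
    rw [← Category.assoc] at hk
    obtain ⟨l, hl⟩ := T.coyoneda_exact₂ hT (k ≫ i2) hk
    have : l ≫ T.mor₁ ≫ p1 = 0 := by rw [← reassoc_of% hl, h21, comp_zero]
    have hl0 : l = 0 := by rwa [← cancel_mono (T.mor₁ ≫ p1), zero_comp]
    rw [← Category.comp_id k, ← h22, reassoc_of% hl, hl0, zero_comp]
  have : IsSplitMono (i2 ≫ T.mor₂) := SplitMonoCategory.isSplitMono_of_mono _
  exact isIso_of_epi_of_isSplitMono _

/-- Converse direction. -/
lemma isIso_comp_fst (T : Triangle C) (hT : T ∈ distTriang C) {A B : C}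
    (i1 : A ⟶ T.obj₂) (i2 : B ⟶ T.obj₂) (p1 : T.obj₂ ⟶ A) (p2 : T.obj₂ ⟶ B)
    (h11 : i1 ≫ p1 = 𝟙 A) (h21 : i2 ≫ p1 = 0) (htot : p1 ≫ i1 + p2 ≫ i2 = 𝟙 _)
    (hiso : IsIso (i2 ≫ T.mor₂)) : IsIso (T.mor₁ ≫ p1) := by
  have : Epi T.mor₂ := epi_of_epi i2 T.mor₂
  have hm1 : Mono T.mor₁ :=
    (T.mor₃_eq_zero_iff_mono₁ hT).1 (T.mor₃_eq_zero_of_epi₂ hT this)
  have : Mono (T.mor₁ ≫ p1) := by
    rw [Preadditive.mono_iff_cancel_zero]
    intro Z l hl
    have h1 : l ≫ T.mor₁ = (l ≫ T.mor₁ ≫ p2) ≫ i2 := by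
      conv_lhs => rw [← Category.comp_id (l ≫ T.mor₁), ← htot]
      simp only [Preadditive.comp_add, Category.assoc, reassoc_of% hl, zero_comp, zero_add]
    have h2 : (l ≫ T.mor₁ ≫ p2) ≫ i2 ≫ T.mor₂ = 0 := by
      rw [← Category.assoc _ i2, ← h1, Category.assoc, comp_distTriang_mor_zero₁₂ _ hT, comp_zero]
    rw [← cancel_mono T.mor₁, zero_comp, h1,
      (cancel_mono (i2 ≫ T.mor₂)).1 (h2.trans zero_comp.symm), zero_comp]
  obtain ⟨l, hl⟩ := T.coyoneda_exact₂ hT (i1 - (i1 ≫ T.mor₂ ≫ inv (i2 ≫ T.mor₂)) ≫ i2)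
    (by simp [Preadditive.sub_comp])
  have : IsSplitEpi (T.mor₁ ≫ p1) := by
    refine IsSplitEpi.mk' ⟨l, ?_⟩
    rw [← reassoc_of% hl]
    simp only [Preadditive.sub_comp, h11, Category.assoc, h21, comp_zero, sub_zero]
  exact isIso_of_mono_of_isSplitEpi _

end Generic

section Square

variable {S S' R R' : Type u} [Category.{v} S] [Category.{v} S'] [Category.{v} R] [Category.{v} R']

/-- Naturality of the base-change map. -/
lemma bcApp_naturality (q : MVSq S S' R R') {M M' : S'} (φ : M ⟶ M') :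
    q.jst.map (q.fls.map φ) ≫ q.bcApp M' = q.bcApp M ≫ q.gls.map (q.jpst.map φ) := by
  have h1 := q.adjG.unit.naturality (q.jst.map (q.fls.map φ))
  have h2 := q.e.hom.naturality (q.fls.map φ)
  have h3 := q.adjF.counit.naturality φ
  simp only [Functor.id_map, Functor.comp_map, Functor.id_obj, Functor.comp_obj] at h1 h2 h3
  simp only [MVSq.bcApp, Category.assoc, ← Functor.map_comp]
  rw [reassoc_of% h1, ← Functor.map_comp, reassoc_of% h2, ← Functor.map_comp, h3,
    Functor.map_comp]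

/-- Naturality of the exchange map. -/
lemma bc2App_naturality (q : MVSq S S' R R') {P P' : R} (φ : P ⟶ P') :
    q.fst.map (q.jls.map φ) ≫ q.bc2App P' = q.bc2App P ≫ q.jpls.map (q.gst.map φ) := by
  have h1 := q.adjJp.unit.naturality (q.fst.map (q.jls.map φ))
  have h2 := q.e.inv.naturality (q.jls.map φ)
  have h3 := q.adjJ.counit.naturality φ
  simp only [Functor.id_map, Functor.comp_map, Functor.id_obj, Functor.comp_obj] at h1 h2 h3
  simp only [MVSq.bc2App, Category.assoc, ← Functor.map_comp]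
  rw [reassoc_of% h1, ← Functor.map_comp, reassoc_of% h2, ← Functor.map_comp, h3,
    Functor.map_comp]

variable [Preadditive S] [Preadditive S'] [Preadditive R] [Preadditive R']
  [HasZeroObject S] [HasZeroObject S'] [HasZeroObject R] [HasZeroObject R']
  [HasShift S ℤ] [HasShift S' ℤ] [HasShift R ℤ] [HasShift R' ℤ]
  [∀ n : ℤ, (shiftFunctor S n).Additive] [∀ n : ℤ, (shiftFunctor S' n).Additive]
  [∀ n : ℤ, (shiftFunctor R n).Additive] [∀ n : ℤ, (shiftFunctor R' n).Additive]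
  [Pretriangulated S] [Pretriangulated S'] [Pretriangulated R] [Pretriangulated R']
  (q : MVSq S S' R R')
  [q.jst.CommShift ℤ] [q.fst.CommShift ℤ] [q.jpst.CommShift ℤ] [q.gst.CommShift ℤ]
  [q.jst.IsTriangulated] [q.fst.IsTriangulated] [q.jpst.IsTriangulated] [q.gst.IsTriangulated]

/-- Objects over `X` killed by restriction to `U`. -/
def Kill (K : S) : Prop := IsZero (q.jst.obj K)

/-- Objects over `X'` killed by restriction to `U'`. -/
def Kill' (W : S') : Prop := IsZero (q.jpst.obj W)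

lemma kill_shift (K : S) (n : ℤ) (h : Kill q K) : Kill q (K⟦n⟧) :=
  ((shiftFunctor R n).map_isZero h).of_iso ((q.jst.commShiftIso n).app K)

lemma kill'_shift (W : S') (n : ℤ) (h : Kill' q W) : Kill' q (W⟦n⟧) :=
  ((shiftFunctor R' n).map_isZero h).of_iso ((q.jpst.commShiftIso n).app W)

lemma kill'_fst {K : S} (h : Kill q K) : Kill' q (q.fst.obj K) :=
  (q.gst.map_isZero h).of_iso (q.e.app K).symm

variable {q}

lemma kill_fls (hq : q.IsMV) {W : S'} (h : Kill' q W) : Kill q (q.fls.obj W) := by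
  have := hq.isIso_bcApp W
  have : q.gls.Additive := q.adjG.right_adjoint_additive
  exact (q.gls.map_isZero h).of_iso (asIso (q.bcApp W))

lemma isIso_jst_fls (hq : q.IsMV) {M M' : S'} (φ : M ⟶ M') [IsIso (q.jpst.map φ)] :
    IsIso (q.jst.map (q.fls.map φ)) := by
  have := hq.isIso_bcApp M
  have := hq.isIso_bcApp M'
  have h := bcApp_naturality q φ
  rw [← IsIso.eq_comp_inv] at h
  rw [h]; infer_instance

lemma isIso_jpst_fst {X Y : S} (φ : X ⟶ Y) [IsIso (q.jst.map φ)] :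
    IsIso (q.jpst.map (q.fst.map φ)) :=
  (NatIso.isIso_map_iff q.e φ).1 (by dsimp; infer_instance)

lemma isIso_jst_unit (hq : q.IsMV) (N : S) : IsIso (q.jst.map (q.adjJ.unit.app N)) := by
  have := hq.isIso_counitJ
  refine ⟨⟨q.adjJ.counit.app (q.jst.obj N), q.adjJ.left_triangle_components N, ?_⟩⟩
  apply (cancel_mono (q.adjJ.counit.app (q.jst.obj N))).1
  exact (Category.assoc _ _ _).trans ((congrArg (q.adjJ.counit.app (q.jst.obj N) ≫ ·)
    (q.adjJ.left_triangle_components N)).trans ((Category.comp_id _).trans (Category.id_comp _).symm))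

lemma isIso_jpst_unit (hq : q.IsMV) (N : S') : IsIso (q.jpst.map (q.adjJp.unit.app N)) := by
  have := hq.isIso_counitJp
  refine ⟨⟨q.adjJp.counit.app (q.jpst.obj N), q.adjJp.left_triangle_components N, ?_⟩⟩
  apply (cancel_mono (q.adjJp.counit.app (q.jpst.obj N))).1
  exact (Category.assoc _ _ _).trans ((congrArg (q.adjJp.counit.app (q.jpst.obj N) ≫ ·)
    (q.adjJp.left_triangle_components N)).trans ((Category.comp_id _).trans (Category.id_comp _).symm))

/-- No maps from killed objects to pushforwards from `U`. -/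
lemma hom_jls_eq_zero {K : S} (h : Kill q K) {P : R} (x : K ⟶ q.jls.obj P) : x = 0 :=
  (q.adjJ.homEquiv K P).symm.injective (h.eq_of_src _ _)

lemma hom_jpls_eq_zero {W : S'} (h : Kill' q W) {Q : R'} (x : W ⟶ q.jpls.obj Q) : x = 0 :=
  (q.adjJp.homEquiv W Q).symm.injective (h.eq_of_src _ _)

lemma hom_fst_jls_eq_zero (hq : q.IsMV) {W : S'} (h : Kill' q W) {P : R}
    (x : W ⟶ q.fst.obj (q.jls.obj P)) : x = 0 := by
  have := hq.isIso_bc2App P
  rw [← cancel_mono (q.bc2App P), hom_jpls_eq_zero h (x ≫ _), zero_comp]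

lemma hom_fls_fst_jls_eq_zero (hq : q.IsMV) {K : S} (h : Kill q K) {P : R}
    (x : K ⟶ q.fls.obj (q.fst.obj (q.jls.obj P))) : x = 0 := by
  apply (q.adjF.homEquiv _ _).symm.injective
  rw [hom_fst_jls_eq_zero hq (kill'_fst q h) ((q.adjF.homEquiv _ _).symm x),
    hom_fst_jls_eq_zero hq (kill'_fst q h) ((q.adjF.homEquiv _ _).symm 0)]

lemma hom_fls_jpls_eq_zero {K : S} (h : Kill q K) {Q : R'}
    (x : K ⟶ q.fls.obj (q.jpls.obj Q)) : x = 0 := by
  apply (q.adjF.homEquiv _ _).symm.injective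
  rw [hom_jpls_eq_zero (kill'_fst q h) ((q.adjF.homEquiv _ _).symm x),
    hom_jpls_eq_zero (kill'_fst q h) ((q.adjF.homEquiv _ _).symm 0)]

/-- Pullback to `X'` is bijective on maps out of killed objects. -/
lemma fst_map_bijective (hq : q.IsMV) {K : S} (hK : Kill q K) (N : S) :
    Function.Bijective (fun x : K ⟶ N => q.fst.map x) := by
  obtain ⟨KN, i, δ, hT⟩ := distinguished_cocone_triangle₁
    (Y := N) (Z := q.jls.obj (q.jst.obj N)) (q.adjJ.unit.app N)
  have hKN : Kill q KN :=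
    ((q.jst.mapTriangle.obj (Triangle.mk i (q.adjJ.unit.app N) δ)).isZero₁_iff_isIso₂
      (q.jst.map_distinguished _ hT)).2 (isIso_jst_unit hq N)
  have := hq.isIso_unitF KN hKN
  have hbij : Function.Bijective (fun y : K ⟶ KN => q.fst.map y) := by
    have he : (fun y : K ⟶ KN => q.fst.map y)
        = (q.adjF.homEquiv K (q.fst.obj KN)).symm ∘ (fun y => y ≫ q.adjF.unit.app KN) := by
      funext y
      simp [Adjunction.homEquiv_counit]
    rw [he]
    exact (Equiv.bijective _).comp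
      ⟨fun a b h => (cancel_mono (q.adjF.unit.app KN)).1 h,
        fun z => ⟨z ≫ inv (q.adjF.unit.app KN), by simp⟩⟩
  refine ⟨?_, fun z => ?_⟩
  · intro a b hab
    rw [← sub_eq_zero]
    have hx : q.fst.map (a - b) = 0 := by rw [Functor.map_sub]; exact sub_eq_zero.2 hab
    revert hx
    generalize a - b = x
    intro hx
    obtain ⟨y, hy'⟩ : ∃ y : K ⟶ KN, x = y ≫ i :=
      Triangle.coyoneda_exact₂ _ hT x (hom_jls_eq_zero hK _)
    have hy0 : q.fst.map y ≫ q.fst.map i = 0 := by rw [← Functor.map_comp, ← hy', hx]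
    obtain ⟨w, hw⟩ := Triangle.coyoneda_exact₂ _
      (inv_rot_of_distTriang _ (q.fst.map_distinguished _ hT)) (q.fst.map y) hy0
    have hw0 : w = 0 := shift_vanish (P := Kill' q) (kill'_shift q)
      (fun W hW x => hom_fst_jls_eq_zero hq hW x) (-1) (kill'_fst q hK) w
    have : y = 0 := hbij.injective
      ((hw.trans ((congrArg (· ≫ _) hw0).trans zero_comp)).trans (Functor.map_zero _ _ _).symm)
    rw [hy', this, zero_comp]
  · obtain ⟨w, hw⟩ : ∃ w : q.fst.obj K ⟶ q.fst.obj KN, z = w ≫ q.fst.map i :=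
      Triangle.coyoneda_exact₂ _ (q.fst.map_distinguished _ hT) z
        (hom_fst_jls_eq_zero hq (kill'_fst q hK) _)
    obtain ⟨y, hy⟩ := hbij.surjective w
    refine ⟨y ≫ i, ?_⟩
    dsimp at hy ⊢
    rw [Functor.map_comp, hy, hw]

/-- Composition with the unit of `f` is bijective on maps out of killed objects. -/
lemma comp_unit_bijective (hq : q.IsMV) {K : S} (hK : Kill q K) (N : S) :
    Function.Bijective (fun x : K ⟶ N => x ≫ q.adjF.unit.app N) := by
  have he : (fun x : K ⟶ N => x ≫ q.adjF.unit.app N)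
      = q.adjF.homEquiv K (q.fst.obj N) ∘ (fun x => q.fst.map x) := by
    funext x
    simp [Adjunction.homEquiv_unit]
  rw [he]
  exact (Equiv.bijective _).comp (fst_map_bijective hq hK N)

/-- A map killed after precomposition with a map inverted by `j^*` into an object orthogonal to the
killed objects vanishes. -/
lemma eq_zero_of_comp {X Y Z : S} (σ : X ⟶ Y) [IsIso (q.jst.map σ)]
    (hZ : ∀ K, Kill q K → ∀ x : K ⟶ Z, x = 0) (φ : Y ⟶ Z) (h : σ ≫ φ = 0) : φ = 0 := by
  obtain ⟨W, g, δ, hT⟩ := distinguished_cocone_triangle σ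
  have hW : Kill q W :=
    ((q.jst.mapTriangle.obj (Triangle.mk σ g δ)).isZero₃_iff_isIso₁
      (q.jst.map_distinguished _ hT)).2 (inferInstanceAs (IsIso (q.jst.map σ)))
  obtain ⟨w, hw⟩ := Triangle.yoneda_exact₂ _ hT φ h
  rw [hw, hZ W hW w]; exact comp_zero

end Square

end Groth.Agent.L13.MVSquare
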