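import Groth.Agent.L13.MVSquare.Conn
import Groth.Prelude.Def_CohDer
import Mathlib.CategoryTheory.Adjunction.Limits
import Mathlib.CategoryTheory.Limits.Preserves.Shapes.Products
import Mathlib.Algebra.DirectSum.Basic

/-! Compactness of objects over a Mayer–Vietoris square. -/

set_option autoImplicit false
set_option linter.unusedSectionVars false
universe v u
open CategoryTheory CategoryTheory.Limits CategoryTheory.Pretriangulated
open W4c3perfectstacks
open scoped DirectSum

namespace Groth.Agent.L13.MVSquare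

section Good

variable {C D B : Type u} [Category.{v} C] [Category.{v} D] [Category.{v} B]
  [Preadditive C] [Preadditive B] [HasCoproducts.{v} D]

/-- Finite sums of maps into the summands. -/
noncomputable def sumTo (N : C) (Φ : D ⥤ C) {ι : Type v} (X : ι → D) :
    (⨁ i, (N ⟶ Φ.obj (X i))) →+ (N ⟶ Φ.obj (∐ X)) :=
  haveI := Classical.decEq ι
  DirectSum.toAddMonoid fun i => Preadditive.rightComp N (Φ.map (Sigma.ι X i))

@[simp] lemma sumTo_of (N : C) (Φ : D ⥤ C) {ι : Type v} [DecidableEq ι] (X : ι → D) (i : ι)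
    (x : N ⟶ Φ.obj (X i)) :
    sumTo N Φ X (DirectSum.of (fun i => N ⟶ Φ.obj (X i)) i x) = x ≫ Φ.map (Sigma.ι X i) := by
  rw [sumTo, Subsingleton.elim (Classical.decEq ι) ‹DecidableEq ι›, DirectSum.toAddMonoid_of]
  rfl

/-- `Hom(N, Φ -)` commutes with direct sums. -/
def Good (N : C) (Φ : D ⥤ C) : Prop :=
  ∀ (ι : Type v) (X : ι → D), Function.Bijective (sumTo N Φ X)

lemma map_bijective {ι : Type v} {α β : ι → Type v} [∀ i, AddCommMonoid (α i)]
    [∀ i, AddCommMonoid (β i)] (f : ∀ i, α i →+ β i) (h : ∀ i, Function.Bijective (f i)) :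
    Function.Bijective (DirectSum.map f) :=
  ⟨(DirectSum.map_injective f).2 fun i => (h i).1, (DirectSum.map_surjective f).2 fun i => (h i).2⟩

lemma good_of_natIso {N : C} {Φ Ψ : D ⥤ C} (e : Φ ≅ Ψ) (h : Good N Φ) : Good N Ψ := by
  intro ι X
  classical
  have key : ⇑(sumTo N Ψ X) = ⇑(Preadditive.rightComp N (e.hom.app (∐ X))) ∘ ⇑(sumTo N Φ X) ∘
      ⇑(DirectSum.map fun i => Preadditive.rightComp N (e.inv.app (X i))) := by
    rw [← AddMonoidHom.coe_comp, ← AddMonoidHom.coe_comp]
    congr 1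
    refine DirectSum.addHom_ext fun i x => ?_
    simp [Preadditive.rightComp]
  rw [key]
  refine Function.Bijective.comp ?_ ((h ι X).comp (map_bijective _ fun i => ?_))
  · exact ⟨fun a b hab => (cancel_mono (e.hom.app (∐ X))).1 hab,
      fun z => ⟨z ≫ e.inv.app _, by simp [Preadditive.rightComp]⟩⟩
  · exact ⟨fun a b hab => (cancel_mono (e.inv.app (X i))).1 hab,
      fun z => ⟨z ≫ e.hom.app _, by simp [Preadditive.rightComp]⟩⟩

lemma good_of_iso {N N' : C} {Φ : D ⥤ C} (e : N ≅ N') (h : Good N Φ) : Good N' Φ := by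
  intro ι X
  classical
  have key : ⇑(sumTo N' Φ X) = ⇑(Preadditive.leftComp (Φ.obj (∐ X)) e.inv) ∘ ⇑(sumTo N Φ X) ∘
      ⇑(DirectSum.map fun i => Preadditive.leftComp (Φ.obj (X i)) e.hom) := by
    rw [← AddMonoidHom.coe_comp, ← AddMonoidHom.coe_comp]
    congr 1
    refine DirectSum.addHom_ext fun i x => ?_
    simp [Preadditive.leftComp]
  rw [key]
  refine Function.Bijective.comp ?_ ((h ι X).comp (map_bijective _ fun i => ?_))
  · exact ⟨fun a b hab => (cancel_epi e.inv).1 hab,
      fun z => ⟨e.hom ≫ z, by simp [Preadditive.leftComp]⟩⟩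
  · exact ⟨fun a b hab => (cancel_epi e.hom).1 hab,
      fun z => ⟨e.inv ≫ z, by simp [Preadditive.leftComp]⟩⟩

variable {L : C ⥤ B} {Rt : B ⥤ C} (adj : L ⊣ Rt) [L.Additive]

include adj in
lemma good_adj_iff (N : C) (Φ : D ⥤ B) : Good N (Φ ⋙ Rt) ↔ Good (L.obj N) Φ := by
  have key : ∀ (ι : Type v) (X : ι → D), Function.Bijective (sumTo N (Φ ⋙ Rt) X) ↔
      Function.Bijective (sumTo (L.obj N) Φ X) := by
    intro ι X
    classical
    have key : ⇑(adj.homAddEquiv N (Φ.obj (∐ X))) ∘ ⇑(sumTo (L.obj N) Φ X) =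
        ⇑(sumTo N (Φ ⋙ Rt) X) ∘
          ⇑(DirectSum.map fun i => (adj.homAddEquiv N (Φ.obj (X i))).toAddMonoidHom) := by
      change ⇑(((adj.homAddEquiv N (Φ.obj (∐ X))).toAddMonoidHom).comp (sumTo (L.obj N) Φ X)) =
        ⇑((sumTo N (Φ ⋙ Rt) X).comp
          (DirectSum.map fun i => (adj.homAddEquiv N (Φ.obj (X i))).toAddMonoidHom))
      congr 1
      refine DirectSum.addHom_ext fun i x => ?_
      simp [Adjunction.homEquiv_naturality_right]
      exact (sumTo_of N (Φ ⋙ Rt) X i _).symm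
    rw [← Function.Bijective.of_comp_iff (f := ⇑(sumTo N (Φ ⋙ Rt) X))
      (map_bijective (fun i => (adj.homAddEquiv N (Φ.obj (X i))).toAddMonoidHom)
        fun i => (adj.homAddEquiv N (Φ.obj (X i))).bijective),
      ← key, Function.Bijective.of_comp_iff' (adj.homAddEquiv N (Φ.obj (∐ X))).bijective]
  exact ⟨fun h ι X => (key ι X).1 (h ι X), fun h ι X => (key ι X).2 (h ι X)⟩

omit [Preadditive C] in
lemma good_of_preserves [HasCoproducts.{v} B] {K : B} (hK : CohDer.IsCompactObject K) (G : D ⥤ B)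
    [∀ (ι : Type v) (X : ι → D), PreservesColimit (Discrete.functor X) G] : Good K G := by
  intro ι X
  classical
  have key : ⇑(sumTo K G X) = ⇑(Preadditive.rightComp K (sigmaComparison G X)) ∘
      ⇑(CohDer.homSumToHomCoprod K fun i => G.obj (X i)) := by
    rw [← AddMonoidHom.coe_comp]
    congr 1
    refine DirectSum.addHom_ext fun i x => ?_
    simp only [sumTo_of, AddMonoidHom.coe_comp, Function.comp_apply, CohDer.homSumToHomCoprod]
    erw [DirectSum.toAddMonoid_of]
    simp [Preadditive.rightComp, ι_comp_sigmaComparison]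
  rw [key]
  exact Function.Bijective.comp ⟨fun a b hab => (cancel_mono (sigmaComparison G X)).1 hab,
    fun z => ⟨z ≫ inv (sigmaComparison G X), by simp [Preadditive.rightComp]⟩⟩ (hK _ _)

lemma sumTo_comp {N : C} {Φ Ψ : D ⥤ C} {ι : Type v} {X : ι → D}
    (θ : ∀ i, Φ.obj (X i) ⟶ Ψ.obj (X i)) (θ' : Φ.obj (∐ X) ⟶ Ψ.obj (∐ X))
    (h : ∀ i, Φ.map (Sigma.ι X i) ≫ θ' = θ i ≫ Ψ.map (Sigma.ι X i))
    (c : ⨁ i, (N ⟶ Φ.obj (X i))) :
    sumTo N Ψ X (DirectSum.map (fun i => Preadditive.rightComp N (θ i)) c)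
      = sumTo N Φ X c ≫ θ' := by
  classical
  induction c using DirectSum.induction_on with
  | zero => simp
  | of i x => simp [Preadditive.rightComp, h]
  | add a b ha hb => simp [ha, hb, Preadditive.add_comp]

omit [HasCoproducts.{v} D] in
lemma exists_map_eq₂ {ι : Type v} {α β γ : ι → Type v} [∀ i, AddCommMonoid (α i)]
    [∀ i, AddCommMonoid (β i)] [∀ i, AddCommMonoid (γ i)]
    (f : ∀ i, α i →+ β i) (g : ∀ i, α i →+ γ i) (a : ⨁ i, β i) (b : ⨁ i, γ i)
    (h : ∀ i, ∃ y, f i y = a i ∧ g i y = b i) :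
    ∃ c : ⨁ i, α i, DirectSum.map f c = a ∧ DirectSum.map g c = b := by
  classical
  choose y hy using h
  refine ⟨DFinsupp.mk (DFinsupp.support a ∪ DFinsupp.support b) fun i => y i, ?_, ?_⟩
  all_goals
    refine DFinsupp.ext fun i => ?_
    rw [DirectSum.map_apply]
    by_cases hi : i ∈ DFinsupp.support a ∪ DFinsupp.support b
    · have e : (DFinsupp.mk (DFinsupp.support a ∪ DFinsupp.support b) fun i => y i) i = y i := by
        rw [DFinsupp.mk_apply, dif_pos hi]
      first
        | exact (congrArg (f i) e).trans (hy i).1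
        | exact (congrArg (g i) e).trans (hy i).2
    · have e : (DFinsupp.mk (DFinsupp.support a ∪ DFinsupp.support b) fun i => y i) i = 0 := by
        rw [DFinsupp.mk_apply, dif_neg hi]
      simp only [Finset.mem_union, DFinsupp.mem_support_toFun, not_or, not_not] at hi
      first
        | exact ((congrArg (f i) e).trans (map_zero _)).trans hi.1.symm
        | exact ((congrArg (g i) e).trans (map_zero _)).trans hi.2.symm

end Good

section Square

variable {S S' R R' : Type u} [Category.{v} S] [Category.{v} S'] [Category.{v} R] [Category.{v} R']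
  [Preadditive S] [Preadditive S'] [Preadditive R] [Preadditive R']
  [HasZeroObject S] [HasZeroObject S'] [HasZeroObject R] [HasZeroObject R']
  [HasShift S ℤ] [HasShift S' ℤ] [HasShift R ℤ] [HasShift R' ℤ]
  [∀ n : ℤ, (shiftFunctor S n).Additive] [∀ n : ℤ, (shiftFunctor S' n).Additive]
  [∀ n : ℤ, (shiftFunctor R n).Additive] [∀ n : ℤ, (shiftFunctor R' n).Additive]
  [Pretriangulated S] [Pretriangulated S'] [Pretriangulated R] [Pretriangulated R']
  {q : MVSq S S' R R'}
  [q.jst.CommShift ℤ] [q.fst.CommShift ℤ] [q.jpst.CommShift ℤ] [q.gst.CommShift ℤ]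
  [q.jst.IsTriangulated] [q.fst.IsTriangulated] [q.jpst.IsTriangulated] [q.gst.IsTriangulated]
  [HasCoproducts.{v} S] [HasCoproducts.{v} S'] [HasCoproducts.{v} R] [HasCoproducts.{v} R']

omit [Pretriangulated S] [Pretriangulated S'] [Pretriangulated R] [Pretriangulated R'] in
/-- Shifts of compact objects are compact. -/
lemma isCompactObject_shift {C : Type u} [Category.{v} C] [Preadditive C] [HasShift C ℤ]
    [∀ n : ℤ, (shiftFunctor C n).Additive] [HasCoproducts.{v} C] {K : C}
    (hK : CohDer.IsCompactObject K) (n : ℤ) : CohDer.IsCompactObject (K⟦n⟧) := by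
  let E := shiftEquiv' C n (-n) (add_neg_cancel n)
  haveI : E.functor.Additive := inferInstanceAs (shiftFunctor C n).Additive
  have hp : PreservesColimitsOfSize.{v, v} (shiftFunctor C (-n)) :=
    E.symm.toAdjunction.leftAdjoint_preservesColimits
  have h : Good K (shiftFunctor C (-n)) :=
    haveI : ∀ (ι : Type v) (X : ι → C),
        PreservesColimit (Discrete.functor X) (shiftFunctor C (-n)) := fun ι X => inferInstance
    good_of_preserves hK _
  have h2 : Good ((shiftFunctor C n).obj K) (𝟭 C) := (good_adj_iff E.toAdjunction K (𝟭 C)).1 h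
  exact h2

variable (q) in
/-- The unit of `f` at `j_* j^* W`. -/
abbrev etaFA (W : S) : AA q W ⟶ DD q W := q.adjF.unit.app (AA q W)

lemma good_AA {M : S} (h : CohDer.IsCompactObject (q.jst.obj M)) : Good M (q.jst ⋙ q.jls) := by
  have := q.adjJ.leftAdjoint_preservesColimits
  exact (good_adj_iff q.adjJ M q.jst).2
    (haveI : ∀ (ι : Type v) (X : ι → S), PreservesColimit (Discrete.functor X) q.jst :=
      fun ι X => inferInstance
     good_of_preserves h q.jst)

lemma good_BB {M : S} (h : CohDer.IsCompactObject (q.fst.obj M)) : Good M (q.fst ⋙ q.fls) := by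
  have := q.adjF.leftAdjoint_preservesColimits
  exact (good_adj_iff q.adjF M q.fst).2
    (haveI : ∀ (ι : Type v) (X : ι → S), PreservesColimit (Discrete.functor X) q.fst :=
      fun ι X => inferInstance
     good_of_preserves h q.fst)

lemma good_DD (hq : q.IsMV) {M : S} (h : CohDer.IsCompactObject (q.gst.obj (q.jst.obj M))) :
    Good M (q.jst ⋙ q.jls ⋙ q.fst ⋙ q.fls) := by
  have := q.adjJ.leftAdjoint_preservesColimits
  have := q.adjG.leftAdjoint_preservesColimits
  haveI : ∀ (ι : Type v) (X : ι → S), PreservesColimit (Discrete.functor X) (q.jst ⋙ q.gst) :=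
    fun ι X => inferInstance
  have h1 : Good (q.jpst.obj (q.fst.obj M)) (q.jst ⋙ q.gst) :=
    good_of_iso (q.e.app M) (good_of_preserves h (q.jst ⋙ q.gst))
  have h2 := (good_adj_iff q.adjJp (q.fst.obj M) (q.jst ⋙ q.gst)).2 h1
  have := hq.isIso_bc2App
  let e : (q.jst ⋙ q.gst) ⋙ q.jpls ≅ q.jst ⋙ q.jls ⋙ q.fst :=
    NatIso.ofComponents (fun Y => (asIso (q.bc2App (q.jst.obj Y))).symm) (fun {Y Y'} φ => by
      dsimp
      rw [IsIso.comp_inv_eq, Category.assoc, IsIso.eq_inv_comp]
      exact (bc2App_naturality q (q.jst.map φ)).symm)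
  exact (good_adj_iff q.adjF M (q.jst ⋙ q.jls ⋙ q.fst)).2 (good_of_natIso e h2)

lemma isCompactObject_of_pullbacks (hq : q.IsMV) (N : S)
    (hU : CohDer.IsCompactObject (q.jst.obj N)) (hX' : CohDer.IsCompactObject (q.fst.obj N))
    (hU' : CohDer.IsCompactObject (q.gst.obj (q.jst.obj N))) : CohDer.IsCompactObject N := by
  classical
  let M : S := N⟦(1 : ℤ)⟧
  have iso1 : q.jst.obj M ≅ (q.jst.obj N)⟦(1 : ℤ)⟧ := (q.jst.commShiftIso (1 : ℤ)).app N
  have iso2 : q.fst.obj M ≅ (q.fst.obj N)⟦(1 : ℤ)⟧ := (q.fst.commShiftIso (1 : ℤ)).app N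
  have iso3 : q.gst.obj (q.jst.obj M) ≅ (q.gst.obj (q.jst.obj N))⟦(1 : ℤ)⟧ :=
    q.gst.mapIso iso1 ≪≫ (q.gst.commShiftIso (1 : ℤ)).app (q.jst.obj N)
  have cU : CohDer.IsCompactObject (q.jst.obj M) :=
    good_of_iso (Φ := 𝟭 R) iso1.symm (isCompactObject_shift hU 1)
  have cX' : CohDer.IsCompactObject (q.fst.obj M) :=
    good_of_iso (Φ := 𝟭 S') iso2.symm (isCompactObject_shift hX' 1)
  have cU' : CohDer.IsCompactObject (q.gst.obj (q.jst.obj M)) :=
    good_of_iso (Φ := 𝟭 R') iso3.symm (isCompactObject_shift hU' 1)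
  have gA := good_AA (q := q) hU
  have gB := good_BB (q := q) hX'
  have gD := good_DD hq hU'
  have gA' := good_AA (q := q) cU
  have gB' := good_BB (q := q) cX'
  have gD' := good_DD hq cU'
  choose d hd using fun Y : S => exists_conn hq Y
  intro ι X
  change Function.Bijective (sumTo N (𝟭 S) X)
  let Y : S := ∐ X
  let P : S ⥤ S := q.jst ⋙ q.jls ⋙ q.fst ⋙ q.fls
  -- natural families
  have nA : ∀ i, (𝟭 S).map (Sigma.ι X i) ≫ etaJ q Y
      = etaJ q (X i) ≫ (q.jst ⋙ q.jls).map (Sigma.ι X i) :=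
    fun i => q.adjJ.unit.naturality _
  have nB : ∀ i, (𝟭 S).map (Sigma.ι X i) ≫ etaF q Y
      = etaF q (X i) ≫ (q.fst ⋙ q.fls).map (Sigma.ι X i) :=
    fun i => q.adjF.unit.naturality _
  have nAD : ∀ i, (q.jst ⋙ q.jls).map (Sigma.ι X i) ≫ etaFA q Y
      = etaFA q (X i) ≫ P.map (Sigma.ι X i) :=
    fun i => q.adjF.unit.naturality _
  have nBD : ∀ i, (q.fst ⋙ q.fls).map (Sigma.ι X i) ≫ Teta q Y
      = Teta q (X i) ≫ P.map (Sigma.ι X i) := fun i => by
    simp only [Functor.comp_map, Teta, P, ← Functor.map_comp]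
    exact congrArg (fun t => q.fls.map (q.fst.map t)) (q.adjJ.unit.naturality _)
  have nd : ∀ i, P.map (Sigma.ι X i) ≫ d Y
      = d (X i) ≫ (shiftFunctor S (1 : ℤ)).map (Sigma.ι X i) :=
    fun i => (conn_naturality hq (Sigma.ι X i) _ _ (hd _) (hd Y)).symm
  -- the connecting homomorphisms
  let ψ : ∀ W : S, (M ⟶ P.obj W) →+ (N ⟶ W) := fun W =>
    AddMonoidHom.mk' (fun p => (shiftFunctor S (1 : ℤ)).preimage (p ≫ d W)) fun p p' => by
      apply (shiftFunctor S (1 : ℤ)).map_injective
      rw [Functor.map_add, Functor.map_preimage, Functor.map_preimage, Functor.map_preimage,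
        Preadditive.add_comp]
  have hψ : ∀ W p, (shiftFunctor S (1 : ℤ)).map (ψ W p) = p ≫ d W := fun W p =>
    Functor.map_preimage _ _
  have hψsum : ∀ w, (shiftFunctor S (1 : ℤ)).map
      (sumTo N (𝟭 S) X (DirectSum.map (fun i => ψ (X i)) w)) = sumTo M P X w ≫ d Y := by
    intro w
    induction w using DirectSum.induction_on with
    | zero => simp
    | of i x =>
      rw [DirectSum.map_of]
      erw [sumTo_of, sumTo_of]
      rw [Functor.map_comp]
      erw [hψ]
      rw [Category.assoc, Category.assoc, nd i]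
      rfl
    | add a b ha hb => simp [ha, hb, Preadditive.add_comp]
  have hsnd : ∀ W : S, ∀ {V : S} (a : V ⟶ AA q W) (b : V ⟶ BB q W),
      biprod.lift a b ≫ sndMap q W = a ≫ etaFA q W - b ≫ Teta q W := by
    intro W V a b
    rw [sndMap, biprod.lift_desc, Preadditive.comp_neg, sub_eq_add_neg]
  constructor
  · rw [injective_iff_map_eq_zero]
    intro c hc
    have hA : DirectSum.map (fun i => Preadditive.rightComp N (etaJ q (X i))) c = 0 :=
      (gA ι X).1 (by rw [map_zero, sumTo_comp (Φ := 𝟭 S) _ _ nA, hc, zero_comp])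
    have hB : DirectSum.map (fun i => Preadditive.rightComp N (etaF q (X i))) c = 0 :=
      (gB ι X).1 (by rw [map_zero, sumTo_comp (Φ := 𝟭 S) _ _ nB, hc, zero_comp])
    obtain ⟨w, hw, -⟩ := exists_map_eq₂ (fun i => ψ (X i))
      (fun i => (0 : (M ⟶ P.obj (X i)) →+ PUnit.{v+1})) c 0 (fun i => by
        have a0 : (c i : N ⟶ X i) ≫ etaJ q (X i) = 0 := by
          have := DFinsupp.ext_iff.1 hA i
          rwa [DirectSum.map_apply] at this
        have b0 : (c i : N ⟶ X i) ≫ etaF q (X i) = 0 := by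
          have := DFinsupp.ext_iff.1 hB i
          rwa [DirectSum.map_apply] at this
        have l0 : (c i : N ⟶ X i) ≫ fstMap q (X i) = 0 := by
          apply biprod.hom_ext
          · rw [Category.assoc, biprod.lift_fst, zero_comp]; exact a0
          · rw [Category.assoc, biprod.lift_snd, zero_comp]; exact b0
        have l1 : (shiftFunctor S (1 : ℤ)).map (c i : N ⟶ X i) ≫
            (shiftFunctor S (1 : ℤ)).map (fstMap q (X i)) = 0 := by
          rw [← Functor.map_comp, l0, Functor.map_zero]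
        obtain ⟨p, hp⟩ := Triangle.coyoneda_exact₁ _ (hd (X i)) _ l1
        exact ⟨p, (shiftFunctor S (1 : ℤ)).map_injective ((hψ _ p).trans hp.symm), rfl⟩)
    have hwd : sumTo M P X w ≫ d Y = 0 := by
      rw [← hψsum, hw, hc, Functor.map_zero]
    obtain ⟨z, hz⟩ : ∃ z : M ⟶ AA q Y ⊞ BB q Y, sumTo M P X w = z ≫ sndMap q Y :=
      Triangle.coyoneda_exact₃ _ (hd Y) _ hwd
    obtain ⟨a, ha⟩ := (gA' ι X).2 (z ≫ biprod.fst)
    obtain ⟨b, hb⟩ := (gB' ι X).2 (z ≫ biprod.snd)
    have hwab : w = DirectSum.map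
          (fun i => Preadditive.rightComp M (etaFA q (X i))) a -
        DirectSum.map (fun i => Preadditive.rightComp M (Teta q (X i))) b := by
      apply (gD' ι X).1
      have ez : z = biprod.lift (z ≫ biprod.fst) (z ≫ biprod.snd) := by
        apply biprod.hom_ext <;> simp
      rw [map_sub, sumTo_comp (Φ := q.jst ⋙ q.jls) (Ψ := P) _ _ nAD,
        sumTo_comp (Φ := q.fst ⋙ q.fls) (Ψ := P) _ _ nBD, ha, hb]
      exact hz.trans ((congrArg (· ≫ sndMap q Y) ez).trans (hsnd _ _ _))
    refine DFinsupp.ext fun i => ?_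
    rw [← hw, DirectSum.map_apply]
    have h0 : (w i : M ⟶ P.obj (X i)) ≫ d (X i) = 0 := by
      have h23 : sndMap q (X i) ≫ d (X i) = 0 := comp_distTriang_mor_zero₂₃ _ (hd (X i))
      have e : (w i : M ⟶ P.obj (X i)) =
          biprod.lift (a i : M ⟶ AA q (X i)) (b i : M ⟶ BB q (X i)) ≫ sndMap q (X i) := by
        rw [hsnd, hwab]
        rw [DirectSum.sub_apply, DirectSum.map_apply, DirectSum.map_apply]
        rfl
      exact (congrArg (· ≫ d (X i)) e).trans
        ((Category.assoc _ _ _).trans ((congrArg _ h23).trans comp_zero))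
    exact (shiftFunctor S (1 : ℤ)).map_injective
      ((hψ _ _).trans (h0.trans (Functor.map_zero _ _ _).symm))
  · intro x
    obtain ⟨a, ha⟩ := (gA ι X).2 (x ≫ etaJ q Y)
    obtain ⟨b, hb⟩ := (gB ι X).2 (x ≫ etaF q Y)
    have hab : DirectSum.map (fun i => Preadditive.rightComp N (etaFA q (X i))) a =
        DirectSum.map (fun i => Preadditive.rightComp N (Teta q (X i))) b := by
      apply (gD ι X).1
      rw [sumTo_comp (Φ := q.jst ⋙ q.jls) (Ψ := P) _ _ nAD,
        sumTo_comp (Φ := q.fst ⋙ q.fls) (Ψ := P) _ _ nBD, ha, hb]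
      have := etaF_naturality q (etaJ q Y)
      exact (Category.assoc x _ _).trans ((congrArg _ this).trans (Category.assoc x _ _).symm)
    obtain ⟨c, hcA, hcB⟩ := exists_map_eq₂ (fun i => Preadditive.rightComp N (etaJ q (X i)))
      (fun i => Preadditive.rightComp N (etaF q (X i))) a b (fun i => by
        have h0 : biprod.lift (a i : N ⟶ AA q (X i)) (b i : N ⟶ BB q (X i)) ≫ sndMap q (X i)
            = 0 := by
          rw [hsnd, sub_eq_zero]
          have := DFinsupp.ext_iff.1 hab i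
          rwa [DirectSum.map_apply, DirectSum.map_apply] at this
        obtain ⟨y, hy⟩ : ∃ y : N ⟶ X i, biprod.lift (a i : N ⟶ AA q (X i))
            (b i : N ⟶ BB q (X i)) = y ≫ fstMap q (X i) :=
          Triangle.coyoneda_exact₂ _ (hd (X i)) _ h0
        refine ⟨y, ?_, ?_⟩
        · exact ((congrArg (· ≫ biprod.fst) hy).trans
            ((Category.assoc _ _ _).trans (congrArg _ (biprod.lift_fst _ _)))).symm.trans
              (biprod.lift_fst _ _)
        · exact ((congrArg (· ≫ biprod.snd) hy).trans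
            ((Category.assoc _ _ _).trans (congrArg _ (biprod.lift_snd _ _)))).symm.trans
              (biprod.lift_snd _ _))
    let r : N ⟶ Y := x - sumTo N (𝟭 S) X c
    have r0 : r ≫ fstMap q Y = 0 := by
      apply biprod.hom_ext
      · rw [Category.assoc, biprod.lift_fst, zero_comp, Preadditive.sub_comp, sub_eq_zero,
          ← ha, ← hcA, sumTo_comp (Φ := 𝟭 S) _ _ nA]
      · rw [Category.assoc, biprod.lift_snd, zero_comp, Preadditive.sub_comp, sub_eq_zero,
          ← hb, ← hcB, sumTo_comp (Φ := 𝟭 S) _ _ nB]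
    have r1 : (shiftFunctor S (1 : ℤ)).map r ≫ (shiftFunctor S (1 : ℤ)).map (fstMap q Y) = 0 := by
      rw [← Functor.map_comp, r0, Functor.map_zero]
    obtain ⟨p, hp⟩ := Triangle.coyoneda_exact₁ _ (hd Y) _ r1
    obtain ⟨w, hw⟩ := (gD' ι X).2 p
    refine ⟨c + DirectSum.map (fun i => ψ (X i)) w, ?_⟩
    have : sumTo N (𝟭 S) X (DirectSum.map (fun i => ψ (X i)) w) = r := by
      apply (shiftFunctor S (1 : ℤ)).map_injective
      rw [hψsum, hw]
      exact hp.symm
    rw [map_add, this]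
    exact add_sub_cancel _ x

end Square

end Groth.Agent.L13.MVSquare
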