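import Groth.Agent.L13.MVSquare.Basic

/-! The Mayer–Vietoris triangle: existence of the connecting map. -/

set_option autoImplicit false
set_option linter.unusedSectionVars false
universe v u
open CategoryTheory CategoryTheory.Limits CategoryTheory.Pretriangulated
open W4c3perfectstacks

namespace Groth.Agent.L13.MVSquare

variable {S S' R R' : Type u} [Category.{v} S] [Category.{v} S'] [Category.{v} R] [Category.{v} R']
  [Preadditive S] [Preadditive S'] [Preadditive R] [Preadditive R']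
  [HasZeroObject S] [HasZeroObject S'] [HasZeroObject R] [HasZeroObject R']
  [HasShift S ℤ] [HasShift S' ℤ] [HasShift R ℤ] [HasShift R' ℤ]
  [∀ n : ℤ, (shiftFunctor S n).Additive] [∀ n : ℤ, (shiftFunctor S' n).Additive]
  [∀ n : ℤ, (shiftFunctor R n).Additive] [∀ n : ℤ, (shiftFunctor R' n).Additive]
  [Pretriangulated S] [Pretriangulated S'] [Pretriangulated R] [Pretriangulated R']
  (q : MVSq S S' R R')
  [q.jst.CommShift ℤ] [q.fst.CommShift ℤ] [q.jpst.CommShift ℤ] [q.gst.CommShift ℤ]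
  [q.jst.IsTriangulated] [q.fst.IsTriangulated] [q.jpst.IsTriangulated] [q.gst.IsTriangulated]

/-- `j_* j^* N`. -/
abbrev AA (N : S) : S := q.jls.obj (q.jst.obj N)
/-- `f_* f^* N`. -/
abbrev BB (N : S) : S := q.fls.obj (q.fst.obj N)
/-- `f_* f^* j_* j^* N`. -/
abbrev DD (N : S) : S := q.fls.obj (q.fst.obj (q.jls.obj (q.jst.obj N)))
/-- The unit of `j`. -/
abbrev etaJ (N : S) : N ⟶ AA q N := q.adjJ.unit.app N
/-- The unit of `f`. -/
abbrev etaF (N : S) : N ⟶ BB q N := q.adjF.unit.app N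
/-- `f_* f^*` of the unit of `j`. -/
abbrev Teta (N : S) : BB q N ⟶ DD q N := q.fls.map (q.fst.map (q.adjJ.unit.app N))
/-- The first map of the Mayer–Vietoris triangle. -/
noncomputable abbrev fstMap (N : S) : N ⟶ AA q N ⊞ BB q N := biprod.lift (etaJ q N) (etaF q N)
/-- The second map of the Mayer–Vietoris triangle. -/
noncomputable abbrev sndMap (N : S) : AA q N ⊞ BB q N ⟶ DD q N :=
  biprod.desc (q.adjF.unit.app (AA q N)) (-Teta q N)

lemma etaF_naturality {X Y : S} (φ : X ⟶ Y) :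
    φ ≫ q.adjF.unit.app Y = q.adjF.unit.app X ≫ q.fls.map (q.fst.map φ) :=
  q.adjF.unit.naturality φ

lemma fstMap_sndMap (N : S) : fstMap q N ≫ sndMap q N = 0 := by
  rw [fstMap, sndMap, biprod.lift_desc, Preadditive.comp_neg, ← sub_eq_add_neg, sub_eq_zero]
  exact etaF_naturality q _

variable {q}

lemma isIso_jst_Teta (hq : q.IsMV) (N : S) : IsIso (q.jst.map (Teta q N)) := by
  have := isIso_jst_unit hq N
  have := isIso_jpst_fst (q := q) (q.adjJ.unit.app N)
  exact isIso_jst_fls hq _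

/-- A map out of `f_* f^* j_* j^* N` killed by `f_* f^*` of the unit of `j` vanishes. -/
lemma eq_zero_of_Teta_comp (hq : q.IsMV) {N : S} {P : R}
    (φ : DD q N ⟶ q.fls.obj (q.fst.obj (q.jls.obj P))) (h : Teta q N ≫ φ = 0) : φ = 0 := by
  have := isIso_jst_Teta hq N
  exact eq_zero_of_comp (Teta q N) (fun K hK x => hom_fls_fst_jls_eq_zero hq hK x) φ h

/-- Existence of the connecting map. -/
lemma exists_conn (hq : q.IsMV) (N : S) :
    ∃ d : DD q N ⟶ N⟦(1 : ℤ)⟧, Triangle.mk (fstMap q N) (sndMap q N) d ∈ distTriang S := by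
  obtain ⟨Q, p, δ, hT⟩ := distinguished_cocone_triangle (fstMap q N)
  obtain ⟨w, hw⟩ : ∃ w : Q ⟶ DD q N, sndMap q N = p ≫ w :=
    Triangle.yoneda_exact₂ _ hT (sndMap q N) (fstMap_sndMap q N)
  -- `w` is inverted by `j^*`
  have := isIso_jst_unit hq N
  have hjB : IsIso (q.jst.map (biprod.inr : BB q N ⟶ AA q N ⊞ BB q N) ≫ q.jst.map p) := by
    have e1 : q.jst.map (biprod.inr : BB q N ⟶ AA q N ⊞ BB q N) ≫ q.jst.map biprod.snd = 𝟙 _ := by
      rw [← Functor.map_comp, biprod.inr_snd, CategoryTheory.Functor.map_id]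
    have e2 : q.jst.map (biprod.inr : BB q N ⟶ AA q N ⊞ BB q N) ≫ q.jst.map biprod.fst = 0 := by
      rw [← Functor.map_comp, biprod.inr_fst, Functor.map_zero]
    have e3 : q.jst.map (biprod.fst : AA q N ⊞ BB q N ⟶ _) ≫ q.jst.map biprod.inl
        + q.jst.map biprod.snd ≫ q.jst.map biprod.inr = 𝟙 _ := by
      rw [← Functor.map_comp, ← Functor.map_comp, ← Functor.map_add, biprod.total,
        CategoryTheory.Functor.map_id]
    refine isIso_inr_comp _ (q.jst.map_distinguished _ hT) (A := q.jst.obj (AA q N))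
      (q.jst.map (biprod.inl : AA q N ⟶ AA q N ⊞ BB q N)) (q.jst.map biprod.inr)
      (q.jst.map biprod.fst) (q.jst.map biprod.snd) e1 e2 e3 ?_
    have : IsIso (q.jst.map (fstMap q N) ≫ q.jst.map biprod.fst) := by
        rw [← Functor.map_comp, biprod.lift_fst]; infer_instance
    exact this
  have hjw : IsIso (q.jst.map w) := by
    have := isIso_jst_Teta hq N
    have : IsIso ((q.jst.map (biprod.inr : BB q N ⟶ AA q N ⊞ BB q N) ≫ q.jst.map p) ≫
        q.jst.map w) := by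
      rw [Category.assoc, ← Functor.map_comp, ← hw, ← Functor.map_comp, biprod.inr_desc,
        Functor.map_neg]
      exact ⟨⟨-inv (q.jst.map (Teta q N)), by simp, by simp⟩⟩
    exact IsIso.of_isIso_comp_left (q.jst.map (biprod.inr : BB q N ⟶ AA q N ⊞ BB q N) ≫
      q.jst.map p) (q.jst.map w)
  -- killed objects see neither `Q` nor `D`
  have hQ : ∀ K, Kill q K → ∀ x : K ⟶ Q, x = 0 := by
    intro K hK x
    have h1 : x ≫ δ = 0 := by
      apply shift_inj (P := Kill q) (kill_shift q) (etaF q N)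
        (fun K hK y hy => (comp_unit_bijective hq hK N).injective (hy.trans zero_comp.symm)) 1 hK
      have h0 : δ ≫ (fstMap q N)⟦(1 : ℤ)⟧' = 0 := comp_distTriang_mor_zero₃₁ _ hT
      have : fstMap q N ≫ biprod.snd = etaF q N := biprod.lift_snd _ _
      rw [← this, Functor.map_comp, Category.assoc, reassoc_of% h0, zero_comp, comp_zero]
    obtain ⟨y, hy⟩ : ∃ y : K ⟶ AA q N ⊞ BB q N, x = y ≫ p :=
      Triangle.coyoneda_exact₃ _ hT x h1
    obtain ⟨z, hz⟩ := (comp_unit_bijective hq hK N).surjective (y ≫ biprod.snd)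
    have hy' : y = z ≫ fstMap q N := by
      apply biprod.hom_ext
      · exact (hom_jls_eq_zero hK _).trans (hom_jls_eq_zero hK _).symm
      · rw [Category.assoc, biprod.lift_snd]; exact hz.symm
    have h12 : fstMap q N ≫ p = 0 := comp_distTriang_mor_zero₁₂ _ hT
    rw [hy, hy', Category.assoc, h12, comp_zero]
  obtain ⟨Z, g, h, hZ⟩ := distinguished_cocone_triangle w
  have hjZ : Kill q Z :=
    ((q.jst.mapTriangle.obj (Triangle.mk w g h)).isZero₃_iff_isIso₁
      (q.jst.map_distinguished _ hZ)).2 hjw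
  have hh : h = 0 := shift_vanish (P := Kill q) (kill_shift q) hQ 1 hjZ h
  obtain ⟨y, hy⟩ : ∃ y : Z ⟶ DD q N, 𝟙 Z = y ≫ g :=
    Triangle.coyoneda_exact₃ _ hZ (𝟙 Z) ((Category.id_comp _).trans hh)
  have hZ0 : IsZero Z := by
    rw [IsZero.iff_id_eq_zero, hy, hom_fls_fst_jls_eq_zero hq hjZ y, zero_comp]
  have hwi : IsIso w := (Triangle.isZero₃_iff_isIso₁ _ hZ).1 hZ0
  refine ⟨inv w ≫ δ, isomorphic_distinguished _ hT _ ?_⟩
  refine Triangle.isoMk _ _ (Iso.refl _) (Iso.refl _) (asIso w).symm ?_ ?_ ?_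
  · exact (Category.comp_id _).trans (Category.id_comp _).symm
  · show sndMap q N ≫ inv w = 𝟙 _ ≫ p
    rw [hw, Category.assoc, IsIso.hom_inv_id, Category.comp_id, Category.id_comp]
  · show (inv w ≫ δ) ≫ (shiftFunctor S (1 : ℤ)).map (𝟙 N) = inv w ≫ δ
    rw [CategoryTheory.Functor.map_id, Category.comp_id]

/-- A fill-in between Mayer–Vietoris triangles is the natural map. -/
lemma conn_naturality (hq : q.IsMV) {N₁ N₂ : S} (φ : N₁ ⟶ N₂)
    (d₁ : DD q N₁ ⟶ N₁⟦(1 : ℤ)⟧) (d₂ : DD q N₂ ⟶ N₂⟦(1 : ℤ)⟧)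
    (h₁ : Triangle.mk (fstMap q N₁) (sndMap q N₁) d₁ ∈ distTriang S)
    (h₂ : Triangle.mk (fstMap q N₂) (sndMap q N₂) d₂ ∈ distTriang S) :
    d₁ ≫ φ⟦(1 : ℤ)⟧' = q.fls.map (q.fst.map (q.jls.map (q.jst.map φ))) ≫ d₂ := by
  have hJ : φ ≫ etaJ q N₂ = etaJ q N₁ ≫ q.jls.map (q.jst.map φ) := q.adjJ.unit.naturality φ
  have hF : φ ≫ etaF q N₂ = etaF q N₁ ≫ q.fls.map (q.fst.map φ) := etaF_naturality q φ
  let b : AA q N₁ ⊞ BB q N₁ ⟶ AA q N₂ ⊞ BB q N₂ :=
    biprod.map (q.jls.map (q.jst.map φ)) (q.fls.map (q.fst.map φ))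
  have hb : fstMap q N₁ ≫ b = φ ≫ fstMap q N₂ := by
    apply biprod.hom_ext
    · rw [Category.assoc, Category.assoc, biprod.map_fst, biprod.lift_fst_assoc, biprod.lift_fst]
      exact hJ.symm
    · rw [Category.assoc, Category.assoc, biprod.map_snd, biprod.lift_snd_assoc, biprod.lift_snd]
      exact hF.symm
  obtain ⟨c, hc2, hc3⟩ : ∃ c : DD q N₁ ⟶ DD q N₂,
      sndMap q N₁ ≫ c = b ≫ sndMap q N₂ ∧ d₁ ≫ φ⟦(1 : ℤ)⟧' = c ≫ d₂ :=
    complete_distinguished_triangle_morphism _ _ h₁ h₂ φ b hb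
  have hnat : Teta q N₁ ≫ q.fls.map (q.fst.map (q.jls.map (q.jst.map φ)))
      = q.fls.map (q.fst.map φ) ≫ Teta q N₂ := by
    simp only [Teta, ← Functor.map_comp]
    exact congrArg (fun t => q.fls.map (q.fst.map t)) hJ.symm
  have hr : Teta q N₁ ≫ c = q.fls.map (q.fst.map φ) ≫ Teta q N₂ := by
    have := congrArg (fun t => biprod.inr ≫ t) hc2
    simpa [b] using this
  have hc : c = q.fls.map (q.fst.map (q.jls.map (q.jst.map φ))) := by
    rw [← sub_eq_zero]
    apply eq_zero_of_Teta_comp hq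
    rw [Preadditive.comp_sub, hr, hnat, sub_self]
  rw [hc3, hc]

/-- Uniqueness of the connecting map. -/
lemma conn_unique (hq : q.IsMV) {N : S} (d d' : DD q N ⟶ N⟦(1 : ℤ)⟧)
    (h₁ : Triangle.mk (fstMap q N) (sndMap q N) d ∈ distTriang S)
    (h₂ : Triangle.mk (fstMap q N) (sndMap q N) d' ∈ distTriang S) : d = d' := by
  simpa using conn_naturality hq (𝟙 N) d d' h₁ h₂

end Groth.Agent.L13.MVSquare
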