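import Groth.Agent.L13.MVSquare.Conn

/-! Glueing along a Mayer–Vietoris square. -/

set_option autoImplicit false
set_option linter.unusedSectionVars false
universe v u
open CategoryTheory CategoryTheory.Limits CategoryTheory.Pretriangulated
open W4c3perfectstacks

namespace Groth.Agent.L13.MVSquare

variable {S S' R R' : Type u} [Category.{v} S] [Category.{v} S'] [Category.{v} R] [Category.{v} R']
  [Preadditive S] [Preadditive S'] [Preadditive R] [Preadditive R']
  [HasZeroObject S] [HasZeroObject S'] [HasZeroObject R] [HasZeroObject R']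
  [HasShift S ℤ] [HasShift S' ℤ] [HasShift R ℤ] [HasShift R' ℤ]
  [∀ n : ℤ, (shiftFunctor S n).Additive] [∀ n : ℤ, (shiftFunctor S' n).Additive]
  [∀ n : ℤ, (shiftFunctor R n).Additive] [∀ n : ℤ, (shiftFunctor R' n).Additive]
  [Pretriangulated S] [Pretriangulated S'] [Pretriangulated R] [Pretriangulated R']
  {q : MVSq S S' R R'}
  [q.jst.CommShift ℤ] [q.fst.CommShift ℤ] [q.jpst.CommShift ℤ] [q.gst.CommShift ℤ]
  [q.jst.IsTriangulated] [q.fst.IsTriangulated] [q.jpst.IsTriangulated] [q.gst.IsTriangulated]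

lemma bc2App_eq_homEquiv (P : R) : q.bc2App P = q.adjJp.homEquiv _ _
    (q.e.inv.app (q.jls.obj P) ≫ q.gst.map (q.adjJ.counit.app P)) := by
  rw [MVSq.bc2App, Adjunction.homEquiv_unit, Functor.map_comp]

lemma glue_isIso (hq : q.IsMV) {NU : R} {N' : S'} (δ : q.jpst.obj N' ≅ q.gst.obj NU) {N : S}
    (a : N ⟶ q.jls.obj NU ⊞ q.fls.obj N')
    (d : q.fls.obj (q.jpls.obj (q.gst.obj NU)) ⟶ N⟦(1 : ℤ)⟧)
    (hT : Triangle.mk a
      (biprod.desc (q.adjF.unit.app (q.jls.obj NU) ≫ q.fls.map (q.bc2App NU))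
        (-(q.fls.map (q.adjJp.unit.app N' ≫ q.jpls.map δ.hom)))) d ∈ distTriang S) :
    IsIso ((q.adjJ.homEquiv N NU).symm (a ≫ biprod.fst)) ∧
      IsIso ((q.adjF.homEquiv N N').symm (a ≫ biprod.snd)) := by
  have : q.fls.Additive := q.adjF.right_adjoint_additive
  let t : N' ⟶ q.jpls.obj (q.gst.obj NU) := q.adjJp.unit.app N' ≫ q.jpls.map δ.hom
  let u := q.adjF.unit.app (q.jls.obj NU) ≫ q.fls.map (q.bc2App NU)
  change Triangle.mk a (biprod.desc u (-q.fls.map t)) d ∈ _ at hT
  -- the restriction of the first component to `U`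
  have hjt : IsIso (q.jst.map (q.fls.map t)) := by
    have := isIso_jpst_unit hq N'
    have : IsIso (q.jpst.map t) := by simp only [t, Functor.map_comp]; infer_instance
    exact isIso_jst_fls hq t
  have hja : IsIso (q.jst.map (a ≫ biprod.fst)) := by
    let i1 : q.jst.obj (q.jls.obj NU) ⟶ q.jst.obj (q.jls.obj NU ⊞ q.fls.obj N') :=
      q.jst.map biprod.inl
    let i2 : q.jst.obj (q.fls.obj N') ⟶ q.jst.obj (q.jls.obj NU ⊞ q.fls.obj N') :=
      q.jst.map biprod.inr
    let p1 : q.jst.obj (q.jls.obj NU ⊞ q.fls.obj N') ⟶ q.jst.obj (q.jls.obj NU) :=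
      q.jst.map biprod.fst
    let p2 : q.jst.obj (q.jls.obj NU ⊞ q.fls.obj N') ⟶ q.jst.obj (q.fls.obj N') :=
      q.jst.map biprod.snd
    have e1 : i1 ≫ p1 = 𝟙 _ := by
      simp only [i1, p1, ← Functor.map_comp, biprod.inl_fst, CategoryTheory.Functor.map_id]
    have e2 : i2 ≫ p1 = 0 := by
      simp only [i2, p1, ← Functor.map_comp, biprod.inr_fst, Functor.map_zero]
    have e3 : p1 ≫ i1 + p2 ≫ i2 = 𝟙 _ := by
      simp only [i1, i2, p1, p2, ← Functor.map_comp, ← Functor.map_add, biprod.total,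
        CategoryTheory.Functor.map_id]
    have e4 : IsIso (i2 ≫ q.jst.map (biprod.desc u (-q.fls.map t))) := by
      simp only [i2, ← Functor.map_comp, biprod.inr_desc, Functor.map_neg]
      exact ⟨⟨-inv (q.jst.map (q.fls.map t)), by simp, by simp⟩⟩
    have := isIso_comp_fst _ (q.jst.map_distinguished _ hT) i1 i2 p1 p2 e1 e2 e3 e4
    have h5 : IsIso (q.jst.map a ≫ p1) := this
    rwa [Functor.map_comp]
  refine ⟨?_, ?_⟩
  · have := hq.isIso_counitJ
    rw [Adjunction.homEquiv_counit]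
    infer_instance
  -- the second component
  obtain ⟨m, hm⟩ : ∃ m : q.fst.obj N ⟶ N', q.adjF.homEquiv N N' m = a ≫ biprod.snd :=
    ⟨_, (q.adjF.homEquiv N N').apply_symm_apply _⟩
  rw [← hm, Equiv.symm_apply_apply]
  -- compatibility of the two components
  have hcomm : q.fst.map (a ≫ biprod.fst) ≫ q.bc2App NU = m ≫ t := by
    apply (q.adjF.homEquiv N _).injective
    rw [Adjunction.homEquiv_naturality_right (f := m), hm, Adjunction.homEquiv_unit,
      Functor.map_comp]
    have h0 : a ≫ biprod.desc u (-q.fls.map t) = 0 := comp_distTriang_mor_zero₁₂ _ hT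
    rw [biprod.desc_eq, Preadditive.comp_add, Preadditive.comp_neg, Preadditive.comp_neg,
      ← sub_eq_add_neg, sub_eq_zero] at h0
    have h1 := etaF_naturality q (a ≫ biprod.fst)
    rw [← reassoc_of% h1]
    simp only [Category.assoc]
    exact h0
  -- `m` is inverted by restriction to `U'`
  have hjm : IsIso (q.jpst.map m) := by
    have hcomm' : q.jpst.map (q.fst.map (a ≫ biprod.fst)) ≫
        q.e.inv.app (q.jls.obj NU) ≫ q.gst.map (q.adjJ.counit.app NU) = q.jpst.map m ≫ δ.hom := by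
      apply (q.adjJp.homEquiv _ _).injective
      rw [Adjunction.homEquiv_naturality_left, Adjunction.homEquiv_naturality_left,
        ← bc2App_eq_homEquiv, hcomm, Adjunction.homEquiv_unit]
    have := isIso_jpst_fst (q := q) (a ≫ biprod.fst)
    have := hq.isIso_counitJ
    have : IsIso (q.jpst.map m ≫ δ.hom) := by rw [← hcomm']; infer_instance
    exact IsIso.of_isIso_comp_right (q.jpst.map m) δ.hom
  -- maps out of killed objects
  have hD : ∀ K, Kill q K → ∀ x : K ⟶ q.fls.obj (q.jpls.obj (q.gst.obj NU)), x = 0 :=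
    fun K hK x => hom_fls_jpls_eq_zero hK x
  have hinj : ∀ K, Kill q K → ∀ x : K ⟶ N, x ≫ a ≫ biprod.snd = 0 → x = 0 := by
    intro K hK x hx
    have hxa : x ≫ a = 0 := by
      apply biprod.hom_ext
      · exact (hom_jls_eq_zero hK _).trans (hom_jls_eq_zero hK _).symm
      · rw [Category.assoc, hx, zero_comp]
    obtain ⟨y, hy⟩ := Triangle.coyoneda_exact₂ _ (inv_rot_of_distTriang _ hT) x hxa
    exact hy.trans ((congrArg (· ≫ _)
      (shift_vanish (P := Kill q) (kill_shift q) hD (-1) hK y)).trans zero_comp)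
  have hsurj : ∀ K, Kill q K → ∀ v : K ⟶ q.fls.obj N', ∃ x : K ⟶ N, x ≫ a ≫ biprod.snd = v := by
    intro K hK v
    obtain ⟨x, hx⟩ : ∃ x : K ⟶ N, v ≫ biprod.inr = x ≫ a :=
      Triangle.coyoneda_exact₂ _ hT (v ≫ biprod.inr) (hD K hK _)
    exact ⟨x, by rw [← reassoc_of% hx, biprod.inr_snd, Category.comp_id]⟩
  have hinj' : ∀ W, Kill' q W → ∀ x : W ⟶ q.fst.obj N, x ≫ m = 0 → x = 0 := by
    intro W hW x hx
    have := hq.isIso_counitF W hW
    obtain ⟨z, hz⟩ : ∃ z : q.fls.obj W ⟶ N, q.fst.map z = q.adjF.counit.app W ≫ x :=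
      (fst_map_bijective hq (kill_fls hq hW) N).surjective _
    have hz0 : z = 0 := by
      apply hinj _ (kill_fls hq hW)
      rw [← hm, ← Adjunction.homEquiv_naturality_left, hz]
      have e0 : (q.adjF.counit.app W ≫ x) ≫ m = 0 :=
        (Category.assoc _ _ _).trans ((congrArg _ hx).trans comp_zero)
      rw [e0, Adjunction.homEquiv_unit, Functor.map_zero, comp_zero]
    rw [← cancel_epi (q.adjF.counit.app W), comp_zero, ← hz, hz0, Functor.map_zero]
  obtain ⟨C, g, h, hC⟩ := distinguished_cocone_triangle m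
  have hjC : Kill' q C :=
    ((q.jpst.mapTriangle.obj (Triangle.mk m g h)).isZero₃_iff_isIso₁
      (q.jpst.map_distinguished _ hC)).2 hjm
  have hh : h = 0 :=
    shift_inj (P := Kill' q) (kill'_shift q) m hinj' 1 hjC h (comp_distTriang_mor_zero₃₁ _ hC)
  obtain ⟨y, hy⟩ : ∃ y : C ⟶ N', 𝟙 C = y ≫ g :=
    Triangle.coyoneda_exact₃ _ hC (𝟙 C) ((Category.id_comp _).trans hh)
  have := hq.isIso_counitF C hjC
  obtain ⟨x, hx⟩ := hsurj _ (kill_fls hq hjC)
    (q.adjF.homEquiv _ _ (q.adjF.counit.app C ≫ y))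
  rw [← hm, ← Adjunction.homEquiv_naturality_left, Equiv.apply_eq_iff_eq] at hx
  have hmg : m ≫ g = 0 := comp_distTriang_mor_zero₁₂ _ hC
  have hC0 : IsZero C := by
    rw [IsZero.iff_id_eq_zero, hy, ← cancel_epi (q.adjF.counit.app C), comp_zero,
      ← reassoc_of% hx, hmg, comp_zero]
  exact (Triangle.isZero₃_iff_isIso₁ _ hC).1 hC0

end Groth.Agent.L13.MVSquare
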